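import Mathlib
import Cfsg.Agent.Helper17.SuzTC.Perm
import Cfsg.Agent.Helper17.SuzP1TC.Perm
import Cfsg.Agent.Helper17.SuzP2TC.Perm
import Cfsg.Agent.Helper17.SuzP3TC.Perm

/-! Upper bound `|Suz| ∣ 448345497600` through a chain of sub-presentations. -/

set_option autoImplicit false
set_option linter.all false

noncomputable section

namespace Cfsg.Agent.Helper17.SuzOrd

open Cfsg.Spor Cfsg.Agent.Helper17.SuzSub

/-- generic chain step -/
theorem card_dvd_step {P G : Type*} [Group P] [Group G] (φ : P →* G) (H : Subgroup G)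
    (hH : H = φ.range) (K : Subgroup P) (n m : ℕ) (hidx : K.index = n) (hK : Nat.card K ∣ m) :
    Nat.card H ∣ n * m := by
  subst hH
  have h1 : Nat.card φ.range ∣ Nat.card P := Subgroup.card_range_dvd φ
  have h2 : Nat.card K * K.index = Nat.card P := Subgroup.card_mul_index K
  rw [← h2, hidx, mul_comm] at h1
  exact h1.trans (Nat.mul_dvd_mul_left n hK)

/-! ### level 1 : P1 → Suz -/

def emb1 : SuzP1.Gen → Suz.Gen
  | .a => .a
  | .b => .b
  | .c => .c
  | .d => .d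
  | .e => .e
  | .f => .f

def f1 (x : SuzP1.Gen) : SuzTC.G := PresentedGroup.of (emb1 x)

theorem lab1 (x y : SuzP1.Gen) :
    coxLabel SuzP1.edges x y = coxLabel Suz.edges (emb1 x) (emb1 y) := by
  cases x <;> cases y <;> decide

theorem rel1 : ∀ r ∈ SuzP1TC.Rels, FreeGroup.lift f1 r = 1 := by
  intro r hr
  rcases hr with ⟨x, _, y, _, rfl⟩ | hr
  · rw [map_pow, map_mul, FreeGroup.lift_apply_of, FreeGroup.lift_apply_of, lab1]
    exact SuzTC.cox (emb1 x) (emb1 y)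
  · simp only [Set.mem_setOf_eq, SuzP1.extra, List.mem_cons, List.mem_singleton, List.not_mem_nil,
      or_false] at hr
    rcases hr with rfl | rfl | rfl
    · have h := SuzTC.extra_one (r := Suz.a * ((Suz.c * Suz.d) ^ 4)⁻¹) (by simp [Suz.extra])
      simpa [f1, emb1, SuzTC.mk_of] using h
    · have h := SuzTC.extra_one (r := (Suz.a * Suz.b * Suz.c * Suz.f) ^ 5) (by simp [Suz.extra])
      simpa [f1, emb1, SuzTC.mk_of] using h
    · have h := SuzTC.extra_one
        (r := ((Suz.b * Suz.c * Suz.d * Suz.c * Suz.d) ^ 5 * Suz.e) ^ 3) (by simp [Suz.extra])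
      simpa [f1, emb1, SuzTC.mk_of] using h

def phi1 : SuzP1TC.G →* SuzTC.G := PresentedGroup.toGroup rel1

theorem phi1_of (x : SuzP1.Gen) : phi1 (PresentedGroup.of x) = f1 x :=
  PresentedGroup.toGroup.of rel1

theorem range1 : SuzTC.Hs = phi1.range := by
  have h1 : phi1.range = Subgroup.closure (Set.range f1) := by
    rw [MonoidHom.range_eq_map, ← PresentedGroup.closure_range_of, MonoidHom.map_closure]
    congr 1
    ext g
    constructor
    · rintro ⟨_, ⟨x, rfl⟩, rfl⟩; exact ⟨x, (phi1_of x).symm⟩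
    · rintro ⟨x, rfl⟩; exact ⟨_, ⟨x, rfl⟩, phi1_of x⟩
  rw [h1, SuzTC.Hs, MonoidHom.map_closure]
  congr 1
  ext g
  constructor
  · rintro ⟨s, hs, rfl⟩
    simp only [Set.mem_insert_iff, Set.mem_singleton_iff] at hs
    rcases hs with rfl | rfl | rfl | rfl | rfl | rfl
    · exact ⟨.a, rfl⟩
    · exact ⟨.b, rfl⟩
    · exact ⟨.c, rfl⟩
    · exact ⟨.d, rfl⟩
    · exact ⟨.e, rfl⟩
    · exact ⟨.f, rfl⟩
  · rintro ⟨x, rfl⟩
    cases x
    · exact ⟨Suz.a, by simp, rfl⟩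
    · exact ⟨Suz.b, by simp, rfl⟩
    · exact ⟨Suz.c, by simp, rfl⟩
    · exact ⟨Suz.d, by simp, rfl⟩
    · exact ⟨Suz.e, by simp, rfl⟩
    · exact ⟨Suz.f, by simp, rfl⟩

/-! ### level 2 : P2 → P1 -/

def emb2 : SuzP2.Gen → SuzP1.Gen
  | .a => .a
  | .b => .b
  | .c => .c
  | .d => .d
  | .e => .e

def f2 (x : SuzP2.Gen) : SuzP1TC.G := PresentedGroup.of (emb2 x)

theorem lab2 (x y : SuzP2.Gen) :
    coxLabel SuzP2.edges x y = coxLabel SuzP1.edges (emb2 x) (emb2 y) := by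
  cases x <;> cases y <;> decide

theorem rel2 : ∀ r ∈ SuzP2TC.Rels, FreeGroup.lift f2 r = 1 := by
  intro r hr
  rcases hr with ⟨x, _, y, _, rfl⟩ | hr
  · rw [map_pow, map_mul, FreeGroup.lift_apply_of, FreeGroup.lift_apply_of, lab2]
    exact SuzP1TC.cox (emb2 x) (emb2 y)
  · simp only [Set.mem_setOf_eq, SuzP2.extra, List.mem_cons, List.mem_singleton, List.not_mem_nil,
      or_false] at hr
    rcases hr with rfl | rfl
    · have h := SuzP1TC.extra_one (r := SuzP1.a * ((SuzP1.c * SuzP1.d) ^ 4)⁻¹)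
        (by simp [SuzP1.extra])
      simpa [f2, emb2, SuzP1TC.mk_of] using h
    · have h := SuzP1TC.extra_one
        (r := ((SuzP1.b * SuzP1.c * SuzP1.d * SuzP1.c * SuzP1.d) ^ 5 * SuzP1.e) ^ 3)
        (by simp [SuzP1.extra])
      simpa [f2, emb2, SuzP1TC.mk_of] using h

def phi2 : SuzP2TC.G →* SuzP1TC.G := PresentedGroup.toGroup rel2

theorem phi2_of (x : SuzP2.Gen) : phi2 (PresentedGroup.of x) = f2 x :=
  PresentedGroup.toGroup.of rel2

theorem range2 : SuzP1TC.Hs = phi2.range := by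
  have h1 : phi2.range = Subgroup.closure (Set.range f2) := by
    rw [MonoidHom.range_eq_map, ← PresentedGroup.closure_range_of, MonoidHom.map_closure]
    congr 1
    ext g
    constructor
    · rintro ⟨_, ⟨x, rfl⟩, rfl⟩; exact ⟨x, (phi2_of x).symm⟩
    · rintro ⟨x, rfl⟩; exact ⟨_, ⟨x, rfl⟩, phi2_of x⟩
  rw [h1, SuzP1TC.Hs, MonoidHom.map_closure]
  congr 1
  ext g
  constructor
  · rintro ⟨s, hs, rfl⟩
    simp only [Set.mem_insert_iff, Set.mem_singleton_iff] at hs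
    rcases hs with rfl | rfl | rfl | rfl | rfl
    · exact ⟨.a, rfl⟩
    · exact ⟨.b, rfl⟩
    · exact ⟨.c, rfl⟩
    · exact ⟨.d, rfl⟩
    · exact ⟨.e, rfl⟩
  · rintro ⟨x, rfl⟩
    cases x
    · exact ⟨SuzP1.a, by simp, rfl⟩
    · exact ⟨SuzP1.b, by simp, rfl⟩
    · exact ⟨SuzP1.c, by simp, rfl⟩
    · exact ⟨SuzP1.d, by simp, rfl⟩
    · exact ⟨SuzP1.e, by simp, rfl⟩

/-! ### level 3 : P3 → P2 -/

def emb3 : SuzP3.Gen → SuzP2.Gen
  | .a => .a
  | .b => .b
  | .c => .c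
  | .d => .d

def f3 (x : SuzP3.Gen) : SuzP2TC.G := PresentedGroup.of (emb3 x)

theorem lab3 (x y : SuzP3.Gen) :
    coxLabel SuzP3.edges x y = coxLabel SuzP2.edges (emb3 x) (emb3 y) := by
  cases x <;> cases y <;> decide

theorem rel3 : ∀ r ∈ SuzP3TC.Rels, FreeGroup.lift f3 r = 1 := by
  intro r hr
  rcases hr with ⟨x, _, y, _, rfl⟩ | hr
  · rw [map_pow, map_mul, FreeGroup.lift_apply_of, FreeGroup.lift_apply_of, lab3]
    exact SuzP2TC.cox (emb3 x) (emb3 y)
  · simp only [Set.mem_setOf_eq, SuzP3.extra, List.mem_cons, List.mem_singleton, List.not_mem_nil,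
      or_false] at hr
    rcases hr with rfl
    · have h := SuzP2TC.extra_one (r := SuzP2.a * ((SuzP2.c * SuzP2.d) ^ 4)⁻¹)
        (by simp [SuzP2.extra])
      simpa [f3, emb3, SuzP2TC.mk_of] using h

def phi3 : SuzP3TC.G →* SuzP2TC.G := PresentedGroup.toGroup rel3

theorem phi3_of (x : SuzP3.Gen) : phi3 (PresentedGroup.of x) = f3 x :=
  PresentedGroup.toGroup.of rel3

theorem range3 : SuzP2TC.Hs = phi3.range := by
  have h1 : phi3.range = Subgroup.closure (Set.range f3) := by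
    rw [MonoidHom.range_eq_map, ← PresentedGroup.closure_range_of, MonoidHom.map_closure]
    congr 1
    ext g
    constructor
    · rintro ⟨_, ⟨x, rfl⟩, rfl⟩; exact ⟨x, (phi3_of x).symm⟩
    · rintro ⟨x, rfl⟩; exact ⟨_, ⟨x, rfl⟩, phi3_of x⟩
  rw [h1, SuzP2TC.Hs, MonoidHom.map_closure]
  congr 1
  ext g
  constructor
  · rintro ⟨s, hs, rfl⟩
    simp only [Set.mem_insert_iff, Set.mem_singleton_iff] at hs
    rcases hs with rfl | rfl | rfl | rfl
    · exact ⟨.a, rfl⟩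
    · exact ⟨.b, rfl⟩
    · exact ⟨.c, rfl⟩
    · exact ⟨.d, rfl⟩
  · rintro ⟨x, rfl⟩
    cases x
    · exact ⟨SuzP2.a, by simp, rfl⟩
    · exact ⟨SuzP2.b, by simp, rfl⟩
    · exact ⟨SuzP2.c, by simp, rfl⟩
    · exact ⟨SuzP2.d, by simp, rfl⟩

/-! ### bottom : `⟨a⟩` in P3 has order dividing 2 -/

theorem card_bot : Nat.card SuzP3TC.Hs ∣ 2 := by
  have h : SuzP3TC.Hs = Subgroup.zpowers (SuzP3TC.gG 0) := by
    rw [SuzP3TC.Hs, MonoidHom.map_closure, Set.image_singleton, Subgroup.zpowers_eq_closure]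
    rfl
  rw [h, Nat.card_zpowers]
  apply orderOf_dvd_of_pow_eq_one
  rw [pow_two]
  exact SuzP3TC.gG_mul_self 0

/-! ### assembling -/

theorem idx3 : SuzP3TC.Hs.index = 1080 := by
  rw [Subgroup.index_eq_card]; exact SuzP3TC.card_Q

theorem idx2 : SuzP2TC.Hs.index = 280 := by
  rw [Subgroup.index_eq_card]; exact SuzP2TC.card_Q

theorem idx1 : SuzP1TC.Hs.index = 416 := by
  rw [Subgroup.index_eq_card]; exact SuzP1TC.card_Q

theorem idx0 : SuzTC.Hs.index = 1782 := by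
  rw [Subgroup.index_eq_card]; exact SuzTC.card_Q

theorem card_Hs_dvd : Nat.card SuzTC.Hs ∣ 251596800 := by
  have h3 := card_dvd_step phi3 SuzP2TC.Hs range3 SuzP3TC.Hs 1080 2 idx3 card_bot
  have h2 := card_dvd_step phi2 SuzP1TC.Hs range2 SuzP2TC.Hs 280 _ idx2 h3
  have h1 := card_dvd_step phi1 SuzTC.Hs range1 SuzP1TC.Hs 416 _ idx1 h2
  exact h1

theorem card_G_eq : Nat.card SuzTC.G = Nat.card SuzTC.Hs * 1782 := by
  rw [← idx0, Subgroup.card_mul_index]

theorem card_G_dvd : Nat.card SuzTC.G ∣ 448345497600 := by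
  rw [card_G_eq]
  exact (Nat.mul_dvd_mul_right card_Hs_dvd 1782).trans (by norm_num)

end Cfsg.Agent.Helper17.SuzOrd
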