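import Mathlib
import Cfsg.Agent.Helper17.SuzOrd.Upper

/-! Lower bound `448345497600 ≤ |Suz|` through a stabiliser chain on the 1782 points, and
consequences: the order, faithfulness of the permutation representation, triviality of the
pointwise stabiliser of the base. -/

set_option autoImplicit false
set_option linter.all false
set_option maxRecDepth 100000

noncomputable section

namespace Cfsg.Agent.Helper17.SuzOrd

open Cfsg.Spor Cfsg.Agent.Helper17.SuzTC

theorem phi_prodw (w : List ℕ) (h : ∀ l ∈ w, l < nl) : phi (prodw w) = permw w := by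
  induction w with
  | nil => simp [prodw, permw]
  | cons l w ih =>
    rw [prodw, permw, map_mul, phi_gG (h l (List.mem_cons_self ..)),
      ih (fun x hx => h x (List.mem_cons_of_mem _ hx))]

theorem phi_prodw_apply (w : List ℕ) (h : ∀ l ∈ w, l < nl) (i : ℕ) :
    phi (prodw w) i = evalw w i := by
  rw [phi_prodw w h, permw_apply]

/-- the stabiliser of a point under `phi`. -/
def stabP (β : ℕ) : Subgroup G := (MulAction.stabilizer (Equiv.Perm ℕ) β).comap phi

theorem mem_stabP {β : ℕ} {g : G} : g ∈ stabP β ↔ phi g β = β := by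
  rw [stabP, Subgroup.mem_comap, MulAction.mem_stabilizer_iff, Equiv.Perm.smul_def]

/-- pointwise stabiliser of a list of points. -/
def Kof : List ℕ → Subgroup G
  | [] => ⊤
  | b :: bs => Kof bs ⊓ stabP b

theorem mem_Kof {bs : List ℕ} {g : G} : g ∈ Kof bs ↔ ∀ b ∈ bs, phi g b = b := by
  induction bs with
  | nil => simp [Kof]
  | cons b bs ih =>
    rw [Kof, Subgroup.mem_inf, ih, mem_stabP]
    simp only [List.mem_cons, forall_eq_or_imp]
    tauto

theorem step [Finite G] (K : Subgroup G) (β : ℕ) (O : Finset ℕ)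
    (h : ∀ p ∈ O, ∃ k ∈ K, phi k β = p) :
    O.card * Nat.card ↥(K ⊓ stabP β) ≤ Nat.card K := by
  classical
  set S : Subgroup K := (stabP β).subgroupOf K with hS
  have hcard : Nat.card S = Nat.card ↥(K ⊓ stabP β) := by
    rw [hS, ← Subgroup.inf_subgroupOf_left]
    exact Nat.card_congr (Subgroup.subgroupOfEquivOfLe inf_le_left).toEquiv
  have hidx : O.card ≤ S.index := by
    rw [Subgroup.index_eq_card]
    choose! f hfK hf using h
    have : Function.Injective (fun p : O => ((⟨f p.1, hfK p.1 p.2⟩ : K) : K ⧸ S)) := by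
      intro p q hpq
      simp only at hpq
      rw [QuotientGroup.eq] at hpq
      rw [hS, Subgroup.mem_subgroupOf, mem_stabP] at hpq
      simp only [Subgroup.coe_mul, Subgroup.coe_inv, map_mul, map_inv,
        Equiv.Perm.mul_apply] at hpq
      rw [hf q.1 q.2, Equiv.Perm.inv_eq_iff_eq, hf p.1 p.2] at hpq
      exact Subtype.ext hpq.symm
    have := Nat.card_le_card_of_injective _ this
    simpa using this
  calc O.card * Nat.card ↥(K ⊓ stabP β) = O.card * Nat.card S := by rw [hcard]
    _ ≤ S.index * Nat.card S := Nat.mul_le_mul_right _ hidx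
    _ = Nat.card K := by rw [mul_comm]; exact Subgroup.card_mul_index S

/-! ### tree certificates -/

def chkTree (W : List (List ℕ)) : List (ℕ × ℕ × ℕ) → List ℕ → Bool
  | [], _ => true
  | (p, q, k) :: t, seen =>
    seen.contains q && (evalw (W.getD k []) q == p) && chkTree W t (p :: seen)

def treePts : List (ℕ × ℕ × ℕ) → List ℕ → List ℕ
  | [], seen => seen
  | (p, _, _) :: t, seen => treePts t (p :: seen)

def wordsOK (bs : List ℕ) (W : List (List ℕ)) : Bool :=
  W.all fun w => (w.all fun l => decide (l < nl)) && bs.all fun b => evalw w b == b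

theorem word_mem {bs : List ℕ} {W : List (List ℕ)} (h : wordsOK bs W = true) (k : ℕ) :
    (∀ l ∈ W.getD k [], l < nl) ∧ prodw (W.getD k []) ∈ Kof bs := by
  by_cases hk : k < W.length
  · have hm : W.getD k [] ∈ W := by
      rw [List.getD_eq_getElem _ _ hk]; exact List.getElem_mem hk
    simp only [wordsOK, List.all_eq_true, Bool.and_eq_true, decide_eq_true_eq, beq_iff_eq] at h
    obtain ⟨h1, h2⟩ := h _ hm
    refine ⟨h1, ?_⟩
    rw [mem_Kof]
    intro b hb
    rw [phi_prodw_apply _ h1]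
    exact h2 b hb
  · rw [List.getD_eq_default _ _ (not_lt.mp hk)]
    exact ⟨by simp, by simp [prodw, (Kof bs).one_mem]⟩

theorem reach_of_chkTree {bs : List ℕ} {W : List (List ℕ)} (hW : wordsOK bs W = true) (β : ℕ) :
    ∀ (l : List (ℕ × ℕ × ℕ)) (seen : List ℕ),
      (∀ p ∈ seen, ∃ g ∈ Kof bs, phi g β = p) → chkTree W l seen = true →
      ∀ p ∈ treePts l seen, ∃ g ∈ Kof bs, phi g β = p := by
  intro l
  induction l with
  | nil => intro seen hs _ p hp; exact hs p hp
  | cons x t ih =>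
    obtain ⟨p, q, k⟩ := x
    intro seen hs hc
    simp only [chkTree, Bool.and_eq_true, List.contains_iff_mem, beq_iff_eq] at hc
    obtain ⟨⟨hq, he⟩, ht⟩ := hc
    apply ih (p :: seen) _ ht
    intro p' hp'
    rcases List.mem_cons.mp hp' with rfl | hp'
    · obtain ⟨g, hg, hgq⟩ := hs q hq
      obtain ⟨hl, hm⟩ := word_mem hW k
      refine ⟨prodw (W.getD k []) * g, (Kof bs).mul_mem hm hg, ?_⟩
      rw [map_mul, Equiv.Perm.mul_apply, hgq, phi_prodw_apply _ hl, he]
    · exact hs p' hp'

theorem level [Finite G] {bs : List ℕ} {W : List (List ℕ)} (hW : wordsOK bs W = true) (β : ℕ)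
    (T : List (ℕ × ℕ × ℕ)) (hT : chkTree W T [β] = true) (n : ℕ)
    (hn : (treePts T [β]).toFinset.card = n) :
    n * Nat.card ↥(Kof (β :: bs)) ≤ Nat.card ↥(Kof bs) := by
  rw [← hn]
  apply step (Kof bs) β
  intro p hp
  rw [List.mem_toFinset] at hp
  refine reach_of_chkTree hW β T [β] ?_ hT p hp
  intro p hp
  rw [List.mem_singleton] at hp
  subst hp
  exact ⟨1, (Kof bs).one_mem, by simp⟩

def W3 : List (List ℕ) :=
   [[2],
    [1],
    [0, 1, 2, 3],
    [3, 5, 1, 0, 1, 5],
    [5, 1, 2, 3, 4, 3, 2, 1, 5]]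

def W4 : List (List ℕ) :=
   [[2],
    [1],
    [0, 1, 2, 5, 1, 0, 1, 5],
    [0, 1, 2, 3, 2, 1, 5, 1, 2, 3, 4, 3, 2, 1, 5, 0, 1, 2, 3]]

def W5 : List (List ℕ) :=
   [[1],
    [2, 1, 0, 1, 2, 5, 1, 0, 1, 5, 0, 1, 2, 3, 2, 1, 5, 1, 2, 3, 4, 3, 2, 1, 5, 0, 1, 2, 3, 1, 2]]

def T3 : List (ℕ × ℕ × ℕ) :=
  [(176, 79, 2), (995, 79, 4), (271, 176, 0), (761, 176, 2), (125, 176, 4), (689, 995, 3), (407, 271, 1), (953, 271, 2), (782, 271, 3), (192, 271, 4), (749, 761, 2), (1583, 761, 3), (954, 761, 4), (532, 125, 2), (115, 125, 3), (473, 689, 0), (278, 689, 2), (536, 407, 3), (304, 407, 4), (1282, 953, 0), (884, 953, 2), (1701, 953, 3), (653, 953, 4), (994, 782, 0), (1588, 782, 2), (481, 782, 4), (586, 192, 2), (1315, 192, 3), (512, 749, 0), (849, 749, 2), (1757, 749, 4), (1746, 1583, 0), (1303, 1583, 2), (618, 1583, 4), (880, 954, 2), (681, 954, 3), (576, 532, 0), (1247, 532, 3), (152, 115, 0), (690, 473, 1), (316, 473, 2), (180, 278, 0), (1592, 278, 4), (365, 536, 0), (1445, 536,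 2), (323, 536, 4), (600, 1282, 2), (930, 1282, 4), (1237, 884, 2), (1098, 884, 3), (1465, 1701, 0), (971, 1701, 2), (419, 1701, 4), (989, 653, 3), (685, 994, 1), (857, 994, 3), (702, 994, 4), (1339, 481, 2), (696, 481, 3), (870, 586, 2), (1623, 1315, 0), (750, 512, 1), (196, 512, 3), (1616, 512, 4), (1114, 849, 3), (666, 1757, 2), (1700, 1757, 3), (1699, 1303, 2), (1002, 1303, 4), (900, 618, 3), (990, 681, 0), (127, 681, 2), (1338, 576, 3), (121, 152, 1), (612, 152, 3), (200, 316, 0), (1257, 316, 4), (117, 180, 1), (1449, 180, 4), (464, 365, 1), (1097, 365, 2), (128, 365, 3), (449, 365, 4), (1103, 1445, 2), (590, 1445, 4), (197, 323, 2), (1446, 600, 3), (638, 1237, 2), (1084, 1237, 4), (904, 419, 3), (1226, 685, 3), (581, 857, 0), (1003, 696, 0), (854, 870, 3), (1441, 750, 4), (310, 196, 0), (312, 127, 2), (155, 200, 1), (896, 200, 4)]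

def T4 : List (ℕ × ℕ × ℕ) :=
  [(192, 125, 0), (1247, 125, 2), (1315, 125, 3), (304, 192, 1), (1465, 192, 2), (1303, 192, 3), (1588, 1247, 0), (407, 1247, 2), (1623, 1315, 0), (954, 1315, 2), (1098, 1315, 3), (176, 304, 2), (995, 304, 3), (1701, 1465, 0), (1746, 1465, 2), (1445, 1465, 3), (930, 1303, 3), (271, 1588, 2), (689, 407, 3), (653, 1623, 2), (1446, 1623, 3), (1757, 954, 3), (1700, 1098, 2), (1084, 1098, 3), (1583, 176, 2), (1097, 1701, 3), (1699, 1445, 0), (473, 1445, 3), (761, 930, 3), (690, 689, 2), (1441, 689, 3), (953, 653, 3), (1616, 1757, 0), (1282, 1097, 3), (1237, 1441, 3)]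

def T5 : List (ℕ × ℕ × ℕ) :=
  [(11, 7, 0), (1384, 7, 1), (1375, 11, 1), (1032, 1384, 0), (1082, 1384, 1), (1385, 1375, 0), (752, 1375, 1), (1713, 1032, 1), (1090, 1082, 0), (284, 1082, 1), (1369, 1385, 1), (769, 752, 0), (1750, 752, 1), (1644, 1713, 0), (772, 1713, 1), (710, 1090, 1), (423, 284, 0), (667, 284, 1), (1400, 1369, 0), (556, 1369, 1), (865, 769, 1), (1597, 1750, 0), (1691, 1750, 1), (1109, 772, 0), (401, 772, 1), (487, 710, 0), (641, 710, 1), (1658, 423, 1), (452, 667, 0), (722, 667, 1), (380, 556, 0), (498, 556, 1), (875, 865, 0), (1464, 865, 1), (726, 1597, 1), (1774, 1691, 0), (881, 1691, 1), (597, 1109, 1), (595, 401, 0), (1554, 401, 1), (935, 641, 0), (1077, 641, 1), (1368, 1658, 0), (1133, 1658, 1), (61, 452, 1), (1039, 722, 0), (337, 498, 0), (1396, 498, 1), (1118, 1464, 0), (1144, 1464, 1), (1048, 726, 0), (1189, 726, 1), (28, 1774, 1), (1016, 597, 1), (1654, 595, 1), (1353, 1554, 0), (500, 1554, 1), (490, 935, 1), (1006, 1077, 0), (1523, 1077, 1), (1239,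 1133, 0), (1718, 1133, 1), (96, 61, 0), (724, 61, 1), (119, 1039, 1), (1683, 337, 1), (1043, 1396, 0), (348, 1396, 1), (514, 1118, 1), (802, 1144, 0), (1770, 1144, 1), (1540, 1189, 0), (1726, 1189, 1), (51, 28, 0), (261, 28, 1), (705, 1016, 0), (1263, 1016, 1), (1412, 1654, 0), (441, 1654, 1), (1695, 1353, 1), (650, 490, 1), (945, 1006, 1), (1722, 1523, 0), (57, 1523, 1), (91, 1239, 1), (1742, 1718, 0), (1293, 1718, 1), (497, 724, 0), (977, 724, 1), (162, 119, 0), (1538, 119, 1), (1423, 1683, 0), (647, 1683, 1), (1299, 1043, 1), (944, 514, 1), (651, 802, 1), (1738, 1770, 0), (56, 1770, 1), (33, 1540, 1), (1734, 1726, 0), (655, 1726, 1), (389, 261, 0), (927, 261, 1), (1547, 1263, 0), (156, 1263, 1), (341, 441, 1), (1751, 1695, 0), (774, 1695, 1), (949, 650, 0), (1561, 650, 1), (376, 1722, 1), (1725, 91, 1), (1366, 1742, 1), (1432, 1293, 0), (1539, 1293, 1), (1392, 497, 1), (671, 977, 0), (1730, 1538, 0), (27, 1538, 1), (539, 647, 1), (1323, 1299, 0), (1193, 1299, 1), (1295,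 944, 0), (1153, 944, 1), (554, 1738, 1), (743, 33, 1), (1745, 1734, 1), (915, 655, 0), (601, 655, 1), (403, 389, 1), (1284, 927, 0), (1657, 1547, 1), (110, 156, 0), (367, 156, 1), (506, 341, 0), (1772, 341, 1), (531, 774, 0), (1458, 1561, 0), (812, 1561, 1), (248, 376, 0), (77, 376, 1), (1537, 1725, 0), (791, 1725, 1), (1511, 1392, 1), (170, 671, 1), (1618, 1730, 1), (50, 27, 0), (1434, 539, 1), (1502, 1153, 0), (1018, 554, 1), (507, 743, 0), (550, 743, 1), (841, 1284, 1), (118, 110, 1), (1769, 1772, 0), (1017, 1772, 1), (1365, 531, 1), (242, 1458, 1), (48, 77, 0), (181, 791, 1), (1192, 1511, 1), (548, 50, 1), (1578, 1434, 0), (830, 1434, 1), (741, 1502, 1), (804, 1018, 0), (373, 550, 1)]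

theorem wOK3 : wordsOK [47, 0] W3 = true := by decide +kernel
theorem wOK4 : wordsOK [79, 47, 0] W4 = true := by decide +kernel
theorem wOK5 : wordsOK [125, 79, 47, 0] W5 = true := by decide +kernel

theorem finG : Finite G := by
  apply Nat.finite_of_card_ne_zero
  intro h
  have := card_G_dvd
  rw [h] at this
  norm_num at this

theorem lev1 : 1782 * Nat.card ↥(Kof [0]) ≤ Nat.card G := by
  haveI := finG
  have h := step (⊤ : Subgroup G) 0 (Finset.range N) (by
    intro p hp
    rw [Finset.mem_range] at hp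
    obtain ⟨g, hg⟩ : ∃ g : G, nd p = g • n0 := by
      induction (nd p) using QuotientGroup.induction_on with
      | H g => exact ⟨g, by simp [n0, MulAction.Quotient.smul_mk]⟩
    refine ⟨g, Subgroup.mem_top g, ?_⟩
    have h1 := hpsi p hp
    rw [hg] at h1
    unfold psiQ at h1
    rw [TCG.psi_smul] at h1
    have h0 := psi_n0
    unfold psiQ at h0
    rw [h0] at h1
    exact h1)
  rw [Finset.card_range, Subgroup.card_top] at h
  exact h

theorem Kof0 : Kof [0] = Hs := by
  ext g
  rw [mem_Kof]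
  simp only [List.mem_singleton, forall_eq]
  constructor
  · intro h
    have h1 : psiQ (g • n0) = psiQ n0 := by
      unfold psiQ
      rw [TCG.psi_smul]
      have h0 := psi_n0
      unfold psiQ at h0
      rw [h0, h]
    have h2 := psi_inj h1
    unfold n0 at h2
    rw [MulAction.Quotient.smul_mk, QuotientGroup.eq] at h2
    simpa using Hs.inv_mem h2
  · intro h
    exact hH g h

theorem lev2 : 416 * Nat.card ↥(Kof [47, 0]) ≤ Nat.card ↥(Kof [0]) := by
  haveI := finG
  have h := step (Kof [0]) 47 ((Finset.range N).filter (fun i => oid i = 2)) (by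
    intro p hp
    rw [Finset.mem_filter, Finset.mem_range] at hp
    obtain ⟨h, hh, e⟩ := orb_reach 2 (odep p) p hp.1 rfl hp.2
    exact ⟨h, Kof0 ▸ hh, e⟩)
  have hc : ((Finset.range N).filter (fun i => oid i = 2)).card = 416 := by decide +kernel
  rw [hc] at h
  exact h

theorem lev3 : 100 * Nat.card ↥(Kof [79, 47, 0]) ≤ Nat.card ↥(Kof [47, 0]) := by
  haveI := finG
  exact level wOK3 79 T3 (by decide +kernel) 100 (by decide +kernel)

theorem lev4 : 36 * Nat.card ↥(Kof [125, 79, 47, 0]) ≤ Nat.card ↥(Kof [79, 47, 0]) := by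
  haveI := finG
  exact level wOK4 125 T4 (by decide +kernel) 36 (by decide +kernel)

theorem lev5 : 168 * Nat.card ↥(Kof [7, 125, 79, 47, 0]) ≤ Nat.card ↥(Kof [125, 79, 47, 0]) := by
  haveI := finG
  exact level wOK5 7 T5 (by decide +kernel) 168 (by decide +kernel)

theorem card_lower : 448345497600 * Nat.card ↥(Kof [7, 125, 79, 47, 0]) ≤ Nat.card G := by
  have h1 := lev1
  have h2 := lev2
  have h3 := lev3
  have h4 := lev4
  have h5 := lev5
  nlinarith [h1, h2, h3, h4, h5]

theorem card_G : Nat.card G = 448345497600 := by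
  haveI := finG
  have h1 := card_lower
  have hpos : 0 < Nat.card ↥(Kof [7, 125, 79, 47, 0]) := Nat.card_pos
  have h2 := Nat.le_of_dvd (by norm_num) card_G_dvd
  nlinarith

theorem card_Kbase : Nat.card ↥(Kof [7, 125, 79, 47, 0]) = 1 := by
  haveI := finG
  have h1 := card_lower
  have hpos : 0 < Nat.card ↥(Kof [7, 125, 79, 47, 0]) := Nat.card_pos
  rw [card_G] at h1
  nlinarith

/-- an element fixing the five base points is trivial. -/
theorem eq_one_of_fix {g : G} (h : ∀ b ∈ [7, 125, 79, 47, 0], phi g b = b) : g = 1 := by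
  have hm : g ∈ Kof [7, 125, 79, 47, 0] := mem_Kof.mpr h
  have hb : Kof [7, 125, 79, 47, 0] = ⊥ := Subgroup.card_eq_one.mp card_Kbase
  rw [hb] at hm
  exact Subgroup.mem_bot.mp hm

theorem phi_injective : Function.Injective phi := by
  rw [injective_iff_map_eq_one]
  intro g hg
  apply eq_one_of_fix
  intro b _
  rw [hg, Equiv.Perm.one_apply]

/-- word identity test via the base. -/
def chkBase (w : List ℕ) : Bool :=
  (w.all fun l => decide (l < nl)) && [7, 125, 79, 47, 0].all fun b => evalw w b == b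

theorem prodw_eq_one {w : List ℕ} (h : chkBase w = true) : prodw w = 1 := by
  simp only [chkBase, Bool.and_eq_true, List.all_eq_true, decide_eq_true_eq, beq_iff_eq] at h
  apply eq_one_of_fix
  intro b hb
  rw [phi_prodw_apply _ h.1]
  exact h.2 b hb

end Cfsg.Agent.Helper17.SuzOrd
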